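import Mathlib.RingTheory.RingHom.EssFiniteType
import Mathlib.AlgebraicGeometry.PullbackCarrier
import Mathlib.AlgebraicGeometry.Morphisms.RingHomProperties
import Mathlib.AlgebraicGeometry.Morphisms.QuasiCompact

/-!
# Locally essentially of finite type morphisms
-/

universe u

open CategoryTheory CategoryTheory.Limits AlgebraicGeometry Opposite TopologicalSpace

set_option backward.isDefEq.respectTransparency.types false
set_option backward.isDefEq.respectTransparency false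

namespace Groth.Agent.EssFT.Basic

variable {X Y Z : Scheme.{u}}

/-- `f` is essentially of finite type near `x`, seen from the affine open `U`. -/
def EssAt (f : X ⟶ Y) (U : Y.affineOpens) (x : X) : Prop :=
  ∃ V : X.affineOpens, x ∈ V.1 ∧
    ∃ e : V.1 ≤ f ⁻¹ᵁ U.1, (f.appLE U V e).hom.EssFiniteType

theorem iff_essAt (f : X ⟶ Y) (U : Y.affineOpens) :
    (∃ T : Set X.affineOpens, (⋃ V ∈ T, ((V : X.Opens) : Set X)) = ((f ⁻¹ᵁ (U : Y.Opens)) : Set X) ∧
        ∀ V ∈ T, ∃ e : (V : X.Opens) ≤ f ⁻¹ᵁ (U : Y.Opens), (f.appLE (U : Y.Opens) (V : X.Opens) e).hom.EssFiniteType) ↔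
      ∀ x ∈ f ⁻¹ᵁ U.1, EssAt f U x := by
  constructor
  · rintro ⟨T, hT, h⟩ x hx
    rw [← SetLike.mem_coe, ← hT] at hx
    simp only [Set.mem_iUnion] at hx
    obtain ⟨V, hV, hxV⟩ := hx
    exact ⟨V, hxV, h V hV⟩
  · intro h
    refine ⟨{V | ∃ e : V.1 ≤ f ⁻¹ᵁ U.1, (f.appLE U V e).hom.EssFiniteType}, ?_, fun V hV => hV⟩
    refine subset_antisymm (Set.iUnion₂_subset fun V hV => hV.1) fun x hx => ?_
    obtain ⟨V, hxV, hV⟩ := h x hx
    exact Set.mem_iUnion₂.2 ⟨V, hV, hxV⟩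

theorem holdsForLocalizationAway {R S : Type u} [CommRing R] [CommRing S] [Algebra R S] (r : R)
    [IsLocalization.Away r S] : (algebraMap R S).EssFiniteType := by
  rw [RingHom.EssFiniteType, toAlgebra_algebraMap]
  exact Algebra.EssFiniteType.of_isLocalization S (Submonoid.powers r)

theorem basicOpen_res (U : X.affineOpens) (r : Γ(X, U.1)) :
    (X.presheaf.map (homOfLE (X.basicOpen_le r)).op).hom.EssFiniteType := by
  have := U.2.isLocalization_basicOpen r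
  exact holdsForLocalizationAway (R := Γ(X, U.1)) (S := Γ(X, X.basicOpen r)) r

theorem change_target {f : X ⟶ Y} (U U' : Y.affineOpens) {x : X} (h : EssAt f U' x)
    (hx : x ∈ f ⁻¹ᵁ U.1) : EssAt f U x := by
  obtain ⟨V, hxV, e, he⟩ := h
  obtain ⟨a, b, hab, hfx⟩ := exists_basicOpen_le_affine_inter U.2 U'.2 (f x) ⟨hx, e hxV⟩
  obtain ⟨c, hc, hxc⟩ := V.2.exists_basicOpen_le (V := f ⁻¹ᵁ Y.basicOpen a) ⟨x, hfx⟩ hxV
  have eW : X.basicOpen c ≤ f ⁻¹ᵁ U.1 := hc.trans (f.preimage_mono (Y.basicOpen_le a))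
  refine ⟨⟨_, V.2.basicOpen c⟩, hxc, eW, ?_⟩
  have e1 : X.basicOpen c ≤ f ⁻¹ᵁ Y.basicOpen b := hab ▸ hc
  have h1 : (f.appLE U'.1 (X.basicOpen c) ((X.basicOpen_le c).trans e)).hom.EssFiniteType := by
    rw [← f.appLE_map e (homOfLE (X.basicOpen_le c)).op, CommRingCat.hom_comp]
    exact he.comp (basicOpen_res V c)
  rw [← f.map_appLE e1 (homOfLE (Y.basicOpen_le b)).op, CommRingCat.hom_comp] at h1
  have h2 := RingHom.EssFiniteType.of_comp _ h1
  have key : ∀ (D : Y.Opens) (hD : D ≤ U.1) (eD : X.basicOpen c ≤ f ⁻¹ᵁ D),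
      D = Y.basicOpen a → (f.appLE D (X.basicOpen c) eD).hom.EssFiniteType →
        (f.appLE U.1 (X.basicOpen c) eW).hom.EssFiniteType := by
    rintro D hD eD rfl hh
    rw [← f.map_appLE eD (homOfLE (Y.basicOpen_le a)).op, CommRingCat.hom_comp]
    exact (basicOpen_res U a).comp hh
  exact key _ (hab ▸ Y.basicOpen_le a) e1 hab.symm h2

theorem forall_of_cover {f : X ⟶ Y} (S : Set Y.affineOpens)
    (hS : (⋃ U ∈ S, ((U : Y.Opens) : Set Y)) = Set.univ)
    (h : ∀ U ∈ S, ∀ x ∈ f ⁻¹ᵁ U.1, EssAt f U x) (U : Y.affineOpens) :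
    ∀ x ∈ f ⁻¹ᵁ U.1, EssAt f U x := by
  intro x hx
  have := Set.mem_univ (f x)
  rw [← hS] at this
  simp only [Set.mem_iUnion] at this
  obtain ⟨U', hU', hfx⟩ := this
  exact change_target U U' (h U' hU' x hfx) hx

theorem exists_finite {f : X ⟶ Y} [QuasiCompact f] (U : Y.affineOpens)
    (h : ∀ x ∈ f ⁻¹ᵁ U.1, EssAt f U x) :
    ∃ T : Set X.affineOpens, T.Finite ∧ (⋃ V ∈ T, ((V : X.Opens) : Set X)) = ((f ⁻¹ᵁ (U : Y.Opens)) : Set X) ∧
        ∀ V ∈ T, ∃ e : (V : X.Opens) ≤ f ⁻¹ᵁ (U : Y.Opens), (f.appLE (U : Y.Opens) (V : X.Opens) e).hom.EssFiniteType := by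
  obtain ⟨T, hT, hT'⟩ := (iff_essAt f U).2 h
  obtain ⟨T', hsub, hfin, hcov⟩ := (f.isCompact_preimage U.2.isCompact).elim_finite_subcover_image
    (fun V _ => V.1.2) hT.ge
  refine ⟨T', hfin, subset_antisymm ?_ hcov, fun V hV => hT' V (hsub hV)⟩
  rw [← hT]
  exact Set.biUnion_subset_biUnion_left hsub

theorem baseChange {Y' : Scheme.{u}} (f : X ⟶ Y) (g : Y' ⟶ Y)
    (hf : ∀ U : Y.affineOpens, ∀ x ∈ f ⁻¹ᵁ U.1, EssAt f U x) (U : Y'.affineOpens)
    (z : ↥(pullback f g)) (hz : z ∈ pullback.snd f g ⁻¹ᵁ U.1) :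
    EssAt (pullback.snd f g) U z := by
  obtain ⟨_, ⟨U₀, hU₀, rfl⟩, hw, -⟩ := Y.isBasis_affineOpens.exists_subset_of_mem_open
    (Set.mem_univ (g (pullback.snd f g z))) isOpen_univ
  have hfz : pullback.fst f g z ∈ f ⁻¹ᵁ U₀ := by
    change f (pullback.fst f g z) ∈ U₀
    rw [← Scheme.Hom.comp_apply, pullback.condition, Scheme.Hom.comp_apply]
    exact hw
  obtain ⟨V, hzV, e, he⟩ := hf ⟨U₀, hU₀⟩ _ hfz
  obtain ⟨a, ha, hza⟩ := U.2.exists_basicOpen_le (V := g ⁻¹ᵁ U₀) ⟨_, hw⟩ hz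
  refine change_target U ⟨_, U.2.basicOpen a⟩ ?_ hz
  have : IsAffine U₀ := hU₀
  have : IsAffine V.1 := V.2
  have : IsAffine (Y'.basicOpen a : Y'.Opens) := U.2.basicOpen a
  let f' := f.resLE U₀ V.1 e
  let g' := g.resLE U₀ (Y'.basicOpen a) ha
  have he' : (f'.appTop).hom.EssFiniteType :=
    (RingHom.EssFiniteType.respectsIso.arrow_mk_iso_iff (arrowResLEAppIso f U₀ V.1 e)).2 he
  have h2 := RingHom.IsStableUnderBaseChange.pullback_fst_appTop
    (P := @RingHom.EssFiniteType) RingHom.EssFiniteType.isStableUnderBaseChange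
    RingHom.EssFiniteType.respectsIso g' f' he'
  let m : pullback g' f' ⟶ pullback f g := (pullbackSymmetry g' f').hom ≫
    pullback.map f' g' f g V.1.ι (Y'.basicOpen a).ι (Scheme.Opens.ι U₀) (by simp [f']) (by simp [g'])
  have : IsOpenImmersion m := inferInstance
  have hW : IsAffineOpen m.opensRange := isAffineOpen_opensRange m
  have hzW : z ∈ m.opensRange := by
    change z ∈ Set.range m
    rw [Scheme.Hom.comp_base, TopCat.coe_comp, Set.range_comp,
      Set.range_eq_univ.2 (pullbackSymmetry g' f').hom.surjective, Set.image_univ,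
      Scheme.Pullback.range_map]
    simp only [Scheme.Opens.range_ι, Set.mem_inter_iff, Set.mem_preimage, SetLike.mem_coe]
    exact ⟨hzV, hza⟩
  have eW : m.opensRange ≤ pullback.snd f g ⁻¹ᵁ Y'.basicOpen a := by
    rintro _ ⟨t, rfl⟩
    change pullback.snd f g (m t) ∈ Y'.basicOpen a
    rw [← Scheme.Hom.comp_apply, show m ≫ pullback.snd f g =
      pullback.fst g' f' ≫ (Y'.basicOpen a).ι by simp [m]]
    exact (pullback.fst g' f' t).2
  refine ⟨⟨_, hW⟩, hzW, eW, ?_⟩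
  refine (RingHom.EssFiniteType.respectsIso.arrow_mk_iso_iff
    (arrowResLEAppIso (pullback.snd f g) (Y'.basicOpen a) m.opensRange eW)).1 ?_
  let i := m.isoOpensRange
  have hfac : i.hom ≫ (pullback.snd f g).resLE (Y'.basicOpen a) m.opensRange eW =
      pullback.fst g' f' := by
    rw [← cancel_mono (Y'.basicOpen a).ι, Category.assoc, Scheme.Hom.resLE_comp_ι,
      Scheme.Hom.isoOpensRange_hom_ι_assoc]
    simp [m]
  rw [← hfac, Scheme.Hom.comp_appTop, CommRingCat.hom_comp] at h2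
  exact (RingHom.EssFiniteType.respectsIso.cancel_right_isIso _ i.hom.appTop).1 h2

end Groth.Agent.EssFT.Basic
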